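import Mathlib
import Groth.Agent.GrpSchLib.ProPoints

/-!
# Separable elements of a tensor product over an algebraically closed field

An idempotent of `A ⊗ B` over an algebraically closed field is a sum of tensors of idempotents; hence separable
elements of `A ⊗ B` lie in the tensor product of the separable parts.
-/

universe u

open TensorProduct Polynomial

namespace Groth.Agent.SepIdemLib

variable {k : Type u} [Field k]

/-- The kernels of two maps tensored: an element killed on both sides comes from both kernels. -/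
theorem mem_range_map_of_ker {A B A' B' : Type u} [AddCommGroup A] [Module k A] [AddCommGroup B] [Module k B]
    [AddCommGroup A'] [Module k A'] [AddCommGroup B'] [Module k B'] (f : A →ₗ[k] A') (g : B →ₗ[k] B')
    (z : A ⊗[k] B) (hf : f.rTensor B z = 0) (hg : g.lTensor A z = 0) :
    z ∈ LinearMap.range (TensorProduct.map (LinearMap.ker f).subtype (LinearMap.ker g).subtype) := by
  obtain ⟨w, rfl⟩ := (Module.Flat.rTensor_exact B (LinearMap.exact_subtype_ker_map f) z).mp hf
  have hw : g.lTensor (LinearMap.ker f) w = 0 := by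
    refine Module.Flat.rTensor_preserves_injective_linearMap (M := B') (LinearMap.ker f).subtype
      (Submodule.injective_subtype _) ?_
    rw [map_zero, ← LinearMap.comp_apply, LinearMap.rTensor_comp_lTensor, ← LinearMap.lTensor_comp_rTensor,
      LinearMap.comp_apply]
    exact hg
  obtain ⟨v, rfl⟩ := (Module.Flat.lTensor_exact (LinearMap.ker f) (LinearMap.exact_subtype_ker_map g) w).mp hw
  refine ⟨v, ?_⟩
  rw [← LinearMap.comp_apply, LinearMap.rTensor_comp_lTensor]

/-- The span of the idempotents. -/
def idemSpan (k : Type u) [Field k] (A : Type u) [CommRing A] [Algebra k A] : Submodule k A :=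
  Submodule.span k {e : A | IsIdempotentElem e}

/-- The span of the tensors of idempotents. -/
def idemTensor (k : Type u) [Field k] (A B : Type u) [CommRing A] [Algebra k A] [CommRing B] [Algebra k B] :
    Submodule k (A ⊗[k] B) :=
  Submodule.span k {z | ∃ e f, IsIdempotentElem e ∧ IsIdempotentElem f ∧ e ⊗ₜ[k] f = z}

theorem finite_idempotents (A : Type u) [CommRing A] [IsNoetherianRing A] : Finite {e : A // IsIdempotentElem e} := by
  haveI : Finite (minimalPrimes A) := (Ideal.finite_minimalPrimes_of_isNoetherianRing A ⊥).to_subtype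
  refine Finite.of_injective (fun e => {P : minimalPrimes A | e.1 ∈ P.1}) fun e e' h => Subtype.ext ?_
  have key : ∀ a b : {e : A // IsIdempotentElem e}, {P : minimalPrimes A | a.1 ∈ P.1} = {P | b.1 ∈ P.1} →
      a.1 * (1 - b.1) = 0 := by
    intro a b hab
    have hid : IsIdempotentElem (a.1 * (1 - b.1)) := a.2.mul b.2.one_sub
    refine hid.eq_zero_of_isNilpotent ?_
    rw [← mem_nilradical, nilradical, ← Ideal.sInf_minimalPrimes, Submodule.mem_sInf]
    intro P hP
    haveI hPp : Ideal.IsPrime (P : Ideal A) := hP.isPrime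
    by_cases ha : a.1 ∈ P
    · exact Ideal.mul_mem_right _ _ ha
    · refine Ideal.mul_mem_left _ _ ?_
      have hb : b.1 ∉ P := fun hb => ha ((Set.ext_iff.mp hab ⟨P, hP⟩).mpr hb)
      refine (hPp.mem_or_mem (?_ : b.1 * (1 - b.1) ∈ P)).resolve_left hb
      rw [mul_sub, mul_one, b.2.eq, sub_self]; exact P.zero_mem
  linear_combination key e e' h - key e' e h.symm

/-- An idempotent tensor of idempotents. -/
theorem idemTensor_le_idemSpan {A B : Type u} [CommRing A] [CommRing B] [Algebra k A] [Algebra k B] :
    idemTensor k A B ≤ idemSpan k (A ⊗[k] B) := by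
  refine Submodule.span_le.mpr ?_
  rintro _ ⟨e, f, he, hf, rfl⟩
  refine Submodule.subset_span ?_
  show IsIdempotentElem (e ⊗ₜ[k] f)
  rw [IsIdempotentElem, Algebra.TensorProduct.tmul_mul_tmul, he.eq, hf.eq]

theorem mul_mem_idemTensor {A B : Type u} [CommRing A] [CommRing B] [Algebra k A] [Algebra k B] {x y : A ⊗[k] B}
    (hx : x ∈ idemTensor k A B) (hy : y ∈ idemTensor k A B) : x * y ∈ idemTensor k A B := by
  induction hx using Submodule.span_induction with
  | mem x hx =>
    induction hy using Submodule.span_induction with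
    | mem y hy =>
      obtain ⟨e, f, he, hf, rfl⟩ := hx
      obtain ⟨e', f', he', hf', rfl⟩ := hy
      rw [Algebra.TensorProduct.tmul_mul_tmul]
      exact Submodule.subset_span ⟨_, _, he.mul he', hf.mul hf', rfl⟩
    | zero => rw [mul_zero]; exact zero_mem _
    | add a b _ _ ha hb => rw [mul_add]; exact add_mem ha hb
    | smul c a _ ha => rw [mul_smul_comm]; exact Submodule.smul_mem _ c ha
  | zero => rw [zero_mul]; exact zero_mem _
  | add a b _ _ ha hb => rw [add_mul]; exact add_mem ha hb
  | smul c a _ ha => rw [smul_mul_assoc]; exact Submodule.smul_mem _ c ha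

/-- A combination of idempotents is never a nonzero nilpotent. -/
theorem eq_zero_of_isNilpotent_of_mem {T : Type u} [CommRing T] [Algebra k T] {z : T}
    (hz : z ∈ idemSpan k T) (hn : IsNilpotent z) : z = 0 := by
  classical
  obtain ⟨c, hc, rfl⟩ := Submodule.mem_span_set.mp hz
  suffices key : ∀ (s : Finset T), (∀ e ∈ s, IsIdempotentElem e) → ∀ (c₀ : k) (F : T), IsIdempotentElem F →
      IsNilpotent ((algebraMap k T c₀ + ∑ e ∈ s, c e • e) * F) → (algebraMap k T c₀ + ∑ e ∈ s, c e • e) * F = 0 by
    have := key c.support hc 0 1 IsIdempotentElem.one (by rw [map_zero, zero_add, mul_one]; exact hn)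
    rwa [map_zero, zero_add, mul_one] at this
  intro s
  induction s using Finset.induction with
  | empty =>
    intro _ c₀ F hF h
    rw [Finset.sum_empty, add_zero] at h ⊢
    by_cases hc₀ : c₀ = 0
    · rw [hc₀, map_zero, zero_mul]
    · have hu : IsUnit (algebraMap k T c₀) := (Ne.isUnit hc₀).map _
      obtain ⟨n, hn⟩ := h
      have : F = 0 := by
        have hn' : algebraMap k T c₀ ^ (n + 1) * F = 0 := by
          rw [← hF.pow_succ_eq n, ← mul_pow, pow_succ, hn, zero_mul]
        exact (hu.pow (n + 1)).mul_right_eq_zero.mp hn'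
      rw [this, mul_zero]
  | insert x s hxs ih =>
    intro hs c₀ F hF h
    have hx := hs x (Finset.mem_insert_self _ _)
    have hs' := fun e he => hs e (Finset.mem_insert_of_mem he)
    rw [Finset.sum_insert hxs] at h ⊢
    set S := ∑ e ∈ s, c e • e
    have e1 : (algebraMap k T c₀ + (c x • x + S)) * (F * x) = (algebraMap k T (c₀ + c x) + S) * (F * x) := by
      rw [Algebra.smul_def, map_add]
      linear_combination (algebraMap k T (c x) * F) * hx.eq
    have e2 : (algebraMap k T c₀ + (c x • x + S)) * (F * (1 - x)) = (algebraMap k T c₀ + S) * (F * (1 - x)) := by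
      rw [Algebra.smul_def]
      linear_combination (-(algebraMap k T (c x) * F)) * hx.eq
    have h1 := ih hs' (c₀ + c x) (F * x) (hF.mul hx) (e1 ▸ by rw [← mul_assoc]; exact (Commute.all _ _).isNilpotent_mul_right h)
    have h2 := ih hs' c₀ (F * (1 - x)) (hF.mul hx.one_sub) (e2 ▸ by rw [← mul_assoc]; exact (Commute.all _ _).isNilpotent_mul_right h)
    rw [← e1] at h1
    rw [← e2] at h2
    linear_combination h1 + h2

variable [IsAlgClosed k]

theorem eq_zero_of_points {B : Type u} [CommRing B] [Algebra k B] [Algebra.FiniteType k B] [_root_.IsReduced B] (b : B)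
    (h : ∀ χ : B →ₐ[k] k, χ b = 0) : b = 0 := by
  haveI : IsJacobsonRing B := isJacobsonRing_of_finiteType (A := k)
  have hmem : b ∈ (⊥ : Ideal B).jacobson := by
    rw [Ideal.jacobson, Submodule.mem_sInf]
    rintro m ⟨-, hm⟩
    obtain ⟨χ, hχ⟩ := GrpSchLib.ProPoints.exists_point_of_ne_top (k := k) hm.ne_top
    rw [hm.eq_of_le (RingHom.ker_ne_top χ) fun x hx => hχ x hx]
    exact h χ
  rwa [(IsJacobsonRing.out' (⊥ : Ideal B) ((nilradical_eq_zero B).le)),
    Ideal.mem_bot] at hmem

/-- An idempotent of a tensor product of finitely generated algebras, the second reduced. -/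
theorem mem_idemTensor_of_reduced {A B : Type u} [CommRing A] [CommRing B] [Algebra k A] [Algebra k B]
    [Algebra.FiniteType k A] [Algebra.FiniteType k B] [_root_.IsReduced B] {E : A ⊗[k] B} (hE : IsIdempotentElem E) :
    E ∈ idemTensor k A B := by
  classical
  haveI : IsNoetherianRing A := Algebra.FiniteType.isNoetherianRing k A
  haveI := finite_idempotents A
  letI := Fintype.ofFinite {e : A // IsIdempotentElem e}
  let bA := Module.Basis.ofVectorSpace k A
  let coef := TensorProduct.equivFinsuppOfBasisLeft (N := B) bA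
  let ev : (B →ₐ[k] k) → A ⊗[k] B →ₐ[k] A := fun χ =>
    (Algebra.TensorProduct.rid k k A).toAlgHom.comp (Algebra.TensorProduct.map (AlgHom.id k A) χ)
  have hev : ∀ (χ : B →ₐ[k] k) (z : A ⊗[k] B) i, bA.repr (ev χ z) i = χ (coef z i) := by
    intro χ z i
    induction z using TensorProduct.induction_on with
    | zero => simp
    | tmul a b =>
      show bA.repr (χ b • a) i = _
      simp [coef, TensorProduct.equivFinsuppOfBasisLeft_apply_tmul, mul_comm]
    | add u v hu hv => simp only [map_add, Finsupp.coe_add, Pi.add_apply, hu, hv]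
  let I : {e : A // IsIdempotentElem e} → Ideal B := fun e =>
    Ideal.span (Set.range fun i => coef E i - algebraMap k B (bA.repr e.1 i))
  have hI : ∀ (χ : B →ₐ[k] k) e, I e ≤ RingHom.ker χ → ev χ E = e.1 := by
    intro χ e h
    refine bA.repr.injective (Finsupp.ext fun i => ?_)
    have : χ (coef E i - algebraMap k B (bA.repr e.1 i)) = 0 := h (Ideal.subset_span ⟨i, rfl⟩)
    rw [map_sub, AlgHom.commutes, sub_eq_zero] at this
    rw [hev]; exact this
  have hI' : ∀ (χ : B →ₐ[k] k), I ⟨ev χ E, hE.map (ev χ)⟩ ≤ RingHom.ker χ := by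
    intro χ
    refine Ideal.span_le.mpr ?_
    rintro _ ⟨i, rfl⟩
    show χ _ = 0
    rw [map_sub, AlgHom.commutes, hev, sub_eq_zero]
    rfl
  have hf : ∀ e : {e : A // IsIdempotentElem e}, ∃ f : B, (∀ χ : B →ₐ[k] k, χ f = if ev χ E = e.1 then 1 else 0) := by
    intro e
    let J := (Finset.univ.erase e).inf I
    have hcop : I e ⊔ J = ⊤ := by
      by_contra hne
      obtain ⟨m, hm, hle⟩ := Ideal.exists_le_maximal _ hne
      obtain ⟨e', he', hle'⟩ := (Ideal.IsPrime.inf_le' hm.isPrime).mp (le_sup_right.trans hle)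
      obtain ⟨χ, hχ⟩ := GrpSchLib.ProPoints.exists_point_of_ne_top (k := k) hm.ne_top
      have h1 := hI χ e fun x hx => hχ x (le_sup_left.trans hle hx)
      have h2 := hI χ e' fun x hx => hχ x (hle' hx)
      exact (Finset.mem_erase.mp he').1 (Subtype.ext (h2.symm.trans h1))
    obtain ⟨a, ha, f, hfJ, haf⟩ := Submodule.mem_sup.mp (hcop.ge (Submodule.mem_top : (1 : B) ∈ ⊤))
    refine ⟨f, fun χ => ?_⟩
    split_ifs with h
    · have : χ a = 0 := (Subtype.ext h : (⟨ev χ E, hE.map (ev χ)⟩ : {e : A // IsIdempotentElem e}) = e) ▸ hI' χ <| ha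
      rw [← add_sub_cancel_left a f, haf, map_sub, map_one, this, sub_zero]
    · refine hI' χ ?_
      exact (Finset.inf_le (Finset.mem_erase.mpr ⟨fun h' => h (congrArg Subtype.val h'), Finset.mem_univ _⟩) :
        J ≤ I ⟨ev χ E, hE.map (ev χ)⟩) hfJ
  choose f hf using hf
  have hidem : ∀ e, IsIdempotentElem (f e) := fun e => by
    refine sub_eq_zero.mp (eq_zero_of_points (k := k) _ fun χ => ?_)
    rw [map_sub, map_mul, hf]; split_ifs <;> simp
  have hEq : E = ∑ e, e.1 ⊗ₜ[k] f e := by
    refine coef.injective (Finsupp.ext fun i => sub_eq_zero.mp (eq_zero_of_points (k := k) _ fun χ => ?_))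
    rw [map_sub, ← hev, ← hev, map_sum, Finset.sum_eq_single ⟨ev χ E, hE.map (ev χ)⟩]
    · show bA.repr (ev χ E) i - bA.repr (χ (f _) • ev χ E) i = 0
      rw [hf, if_pos rfl, one_smul, sub_self]
    · intro e _ he
      show χ (f e) • e.1 = 0
      rw [hf, if_neg fun h => he (Subtype.ext h.symm), zero_smul]
    · simp
  rw [hEq]
  exact sum_mem fun e _ => Submodule.subset_span ⟨_, _, e.2, hidem e, rfl⟩

/-- An idempotent of a tensor product of finitely generated algebras. -/
theorem mem_idemTensor_of_fg {A B : Type u} [CommRing A] [CommRing B] [Algebra k A] [Algebra k B]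
    [Algebra.FiniteType k A] [Algebra.FiniteType k B] {E : A ⊗[k] B} (hE : IsIdempotentElem E) :
    E ∈ idemTensor k A B := by
  haveI : IsNoetherianRing B := Algebra.FiniteType.isNoetherianRing k B
  let N := nilradical B
  haveI : _root_.IsReduced (B ⧸ N) := (Ideal.isRadical_iff_quotient_reduced N).mp (Ideal.radical_isRadical _)
  haveI : Algebra.FiniteType k (B ⧸ N) :=
    Algebra.FiniteType.of_surjective (Ideal.Quotient.mkₐ k N) Ideal.Quotient.mk_surjective
  let π : A ⊗[k] B →ₐ[k] A ⊗[k] (B ⧸ N) := Algebra.TensorProduct.map (AlgHom.id k A) (Ideal.Quotient.mkₐ k N)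
  have hker : RingHom.ker π.toRingHom ≤ nilradical (A ⊗[k] B) := by
    show RingHom.ker (Algebra.TensorProduct.map (AlgHom.id k A) (Ideal.Quotient.mkₐ k N)) ≤ _
    rw [Algebra.TensorProduct.lTensor_ker _ Ideal.Quotient.mk_surjective, Ideal.map_le_iff_le_comap]
    intro x hx
    rw [RingHom.mem_ker] at hx
    exact (mem_nilradical.mpr ((mem_nilradical.mp (Ideal.Quotient.eq_zero_iff_mem.mp hx)).map _))
  have hlift : π E ∈ Submodule.map π.toLinearMap (idemTensor k A B) := by
    refine (Submodule.span_le.mpr ?_ : idemTensor k A (B ⧸ N) ≤ _) (mem_idemTensor_of_reduced (hE.map π))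
    rintro _ ⟨e, f, he, hf, rfl⟩
    obtain ⟨f', hf', rfl⟩ := exists_isIdempotentElem_eq_of_ker_isNilpotent (Ideal.Quotient.mk N)
      (fun x hx => mem_nilradical.mp (Ideal.Quotient.eq_zero_iff_mem.mp hx)) f
      (Ideal.Quotient.mk_surjective f) hf
    exact ⟨e ⊗ₜ f', Submodule.subset_span ⟨e, f', he, hf', rfl⟩, rfl⟩
  obtain ⟨E', hE', hEE'⟩ := hlift
  -- `E'` is idempotent, hence equal to `E`
  have hid : IsIdempotentElem E' := by
    refine sub_eq_zero.mp (eq_zero_of_isNilpotent_of_mem (k := k) ?_ ?_)
    · exact sub_mem (idemTensor_le_idemSpan (mul_mem_idemTensor hE' hE')) (idemTensor_le_idemSpan hE')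
    · refine mem_nilradical.mp (hker ?_)
      show π (E' * E' - E') = 0
      rw [map_sub, map_mul, show π E' = π E from hEE', ← map_mul, hE.eq, sub_self]
  have hnil : IsNilpotent (E - E') := mem_nilradical.mp (hker (by
    show π (E - E') = 0
    rw [map_sub]; exact sub_eq_zero.mpr hEE'.symm))
  rw [eq_of_isNilpotent_sub_of_isIdempotentElem hE hid hnil]
  exact hE'

/-- An idempotent of any tensor product. -/
theorem mem_idemTensor {A B : Type u} [CommRing A] [CommRing B] [Algebra k A] [Algebra k B] {E : A ⊗[k] B}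
    (hE : IsIdempotentElem E) : E ∈ idemTensor k A B := by
  classical
  obtain ⟨S, hS⟩ := TensorProduct.exists_finset E
  let A₁ := Algebra.adjoin k ((S.image Prod.fst : Finset A) : Set A)
  let B₁ := Algebra.adjoin k ((S.image Prod.snd : Finset B) : Set B)
  haveI : Algebra.FiniteType k A₁ := ⟨(Subalgebra.fg_top A₁).mpr ⟨_, rfl⟩⟩
  haveI : Algebra.FiniteType k B₁ := ⟨(Subalgebra.fg_top B₁).mpr ⟨_, rfl⟩⟩
  let ι := Algebra.TensorProduct.map A₁.val B₁.val
  have hι : Function.Injective ι := by
    show Function.Injective (TensorProduct.map A₁.val.toLinearMap B₁.val.toLinearMap)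
    rw [← LinearMap.lTensor_comp_rTensor]
    exact (Module.Flat.lTensor_preserves_injective_linearMap _ Subtype.val_injective).comp
      (Module.Flat.rTensor_preserves_injective_linearMap _ Subtype.val_injective)
  obtain ⟨E₁, rfl⟩ : ∃ E₁, ι E₁ = E := by
    refine ⟨∑ p ∈ S.attach, (⟨p.1.1, Algebra.subset_adjoin (Finset.mem_coe.mpr (Finset.mem_image_of_mem _ p.2))⟩ : A₁) ⊗ₜ[k]
      (⟨p.1.2, Algebra.subset_adjoin (Finset.mem_coe.mpr (Finset.mem_image_of_mem _ p.2))⟩ : B₁), ?_⟩
    rw [hS, map_sum, ← Finset.sum_attach S]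
    exact Finset.sum_congr rfl fun p _ => rfl
  have h1 : IsIdempotentElem E₁ := hι (by rw [map_mul]; exact hE)
  have h2 := Submodule.mem_map_of_mem (f := ι.toLinearMap) (mem_idemTensor_of_fg h1)
  refine (Submodule.map_span_le ι.toLinearMap _ _).mpr ?_ h2
  rintro _ ⟨e, f, he, hf, rfl⟩
  exact Submodule.subset_span ⟨e.1, f.1, he.map A₁.val, hf.map B₁.val, rfl⟩

/-- A separable element is a combination of idempotents. -/
theorem mem_idemSpan_of_isSeparable {T : Type u} [CommRing T] [Algebra k T] {z : T} (hz : IsSeparable k z) :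
    z ∈ idemSpan k T := by
  classical
  set q := minpoly k z with hq
  have hsep : q.Separable := hz
  have hint : IsIntegral k z := by
    by_contra h
    exact hsep.ne_zero (minpoly.eq_zero h)
  have hmon : q.Monic := minpoly.monic hint
  set s := q.roots.toFinset
  have hspl : q.Splits := IsAlgClosed.splits q
  have hprod : q = ∏ r ∈ s, (X - C r) := by
    conv_lhs => rw [hspl.eq_prod_roots_of_monic hmon]
    rw [Finset.prod_eq_multiset_prod, Multiset.toFinset_val, (nodup_roots hsep).dedup]
  have hroot : ∀ P : k[X], (∀ r ∈ s, P.eval r = 0) → aeval z P = 0 := by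
    intro P hP
    have : q ∣ P := by
      rw [hprod]
      refine Finset.prod_dvd_of_coprime ?_ fun r hr => dvd_iff_isRoot.mpr (hP r hr)
      intro a _ b _ hab
      exact pairwise_coprime_X_sub_C Function.injective_id hab
    obtain ⟨c, rfl⟩ := this
    rw [map_mul, hq, minpoly.aeval, zero_mul]
  have hinj : Set.InjOn (_root_.id : k → k) s := Function.injective_id.injOn
  let L := fun r => aeval z (Lagrange.basis s _root_.id r)
  have hL : ∀ r ∈ s, IsIdempotentElem (L r) := by
    intro r hr
    show aeval z _ * aeval z _ = aeval z _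
    rw [← map_mul, ← sub_eq_zero, ← map_sub]
    refine hroot _ fun a ha => ?_
    rw [eval_sub, eval_mul]
    by_cases har : r = a
    · subst har
      rw [show (Lagrange.basis s _root_.id r).eval r = 1 from Lagrange.eval_basis_self hinj hr, one_mul, sub_self]
    · rw [show (Lagrange.basis s _root_.id r).eval a = 0 from Lagrange.eval_basis_of_ne (v := _root_.id) har ha,
        zero_mul, sub_self]
  have hz' : z = ∑ r ∈ s, r • L r := by
    have h1 : aeval z (X - ∑ r ∈ s, C r * Lagrange.basis s _root_.id r) = 0 := by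
      refine hroot _ fun a ha => ?_
      rw [eval_sub, eval_X, eval_finsetSum, Finset.sum_eq_single a]
      · rw [eval_mul, eval_C, show (Lagrange.basis s _root_.id a).eval a = 1 from Lagrange.eval_basis_self hinj ha,
          mul_one, sub_self]
      · intro r _ hne
        rw [eval_mul, show (Lagrange.basis s _root_.id r).eval a = 0 from Lagrange.eval_basis_of_ne (v := _root_.id) hne ha,
          mul_zero]
      · exact fun h => absurd ha h
    rw [map_sub, aeval_X, sub_eq_zero, map_sum] at h1
    exact h1.trans (Finset.sum_congr rfl fun r _ => by rw [map_mul, aeval_C, ← Algebra.smul_def])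
  rw [hz']
  exact sum_mem fun r hr => Submodule.smul_mem _ r (Submodule.subset_span (hL r hr))

end Groth.Agent.SepIdemLib
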